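import Groth.Agent.SiteBase.ClosedEmb
import Mathlib.AlgebraicGeometry.Modules.Sheaf
import Mathlib.AlgebraicGeometry.Morphisms.ClosedImmersion

/-!
# Direct image of modules along a closed immersion is fully faithful
-/

set_option autoImplicit false
set_option backward.isDefEq.respectTransparency false
set_option backward.isDefEq.respectTransparency.types false

universe u

open CategoryTheory CategoryTheory.Limits AlgebraicGeometry TopologicalSpace Opposite

noncomputable section

namespace Groth.Agent.ClosedPush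

variable {X Y : Scheme.{u}} (f : X ⟶ Y) [IsClosedImmersion f]

/-- A map of abelian presheaves of modules agreeing with a linear map on preimages is linear. -/
lemma app_smul_of_push {M N : X.Modules} (α : M.presheaf ⟶ N.presheaf)
    (φ : (Scheme.Modules.pushforward f).obj M ⟶ (Scheme.Modules.pushforward f).obj N)
    (h : ∀ O : Y.Opens, α.app (op (f ⁻¹ᵁ O)) = φ.app O)
    (V : X.Opens) (a : Γ(X, V)) (m : Γ(M, V)) :
    α.app (op V) (a • m) = a • α.app (op V) m := by
  have hloc : ∀ x : V, ∃ (O : Y.Opens) (hO : f ⁻¹ᵁ O ≤ V), x.1 ∈ f ⁻¹ᵁ O ∧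
      ∃ b : Γ(Y, O), f.app O b = X.presheaf.map (homOfLE hO).op a := by
    rintro ⟨x, hx⟩
    obtain ⟨s, hs⟩ := f.stalkMap_surjective x (X.presheaf.germ V x hx a)
    obtain ⟨O, hxO, b, rfl⟩ := TopCat.Presheaf.exists_germ_eq Y.presheaf s
    rw [Scheme.Hom.germ_stalkMap_apply] at hs
    obtain ⟨W, hxW, iO, iV, hW⟩ := X.presheaf.germ_eq x _ hx _ _ hs
    obtain ⟨O', hO'open, hO'⟩ := (f.isClosedEmbedding.isInducing).isOpen_iff.1 W.2
    have hle : f ⁻¹ᵁ (O ⊓ ⟨O', hO'open⟩) ≤ W := fun y hy => by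
      have h2 : y ∈ f ⁻¹' O' := hy.2
      rw [hO'] at h2
      exact h2
    refine ⟨O ⊓ ⟨O', hO'open⟩, hle.trans (leOfHom iV), ⟨hxO, ?_⟩,
      Y.presheaf.map (homOfLE inf_le_left).op b, ?_⟩
    · have h2 : x ∈ f ⁻¹' O' := hO'.symm ▸ hxW
      exact h2
    · have h3 := congrArg (fun t => X.presheaf.map (homOfLE hle).op t) hW
      simp only [← ConcreteCategory.comp_apply, Category.assoc, ← Functor.map_comp] at h3
      refine Eq.trans ?_ (h3.trans ?_)
      · exact ConcreteCategory.congr_hom (f.naturality (homOfLE (inf_le_left : O ⊓ ⟨O', hO'open⟩ ≤ O)).op) b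
      · exact ConcreteCategory.congr_hom (congrArg X.presheaf.map (Subsingleton.elim _ _)) a
  choose O hO hxO b hb using hloc
  apply TopCat.Sheaf.eq_of_locally_eq' (⟨N.presheaf, N.isSheaf⟩ : TopCat.Sheaf Ab.{u} X)
    (fun x : V => f ⁻¹ᵁ (O x)) V (fun x => homOfLE (hO x))
    (fun y hy => Opens.mem_iSup.2 ⟨⟨y, hy⟩, hxO ⟨y, hy⟩⟩)
  intro x
  let i := homOfLE (hO x)
  have nat : ∀ t : Γ(M, V), N.presheaf.map i.op (α.app (op V) t) =
      α.app (op (f ⁻¹ᵁ (O x))) (M.presheaf.map i.op t) := fun t =>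
    (ConcreteCategory.congr_hom (α.naturality i.op) t).symm
  show N.presheaf.map i.op (α.app (op V) (a • m)) = N.presheaf.map i.op (a • α.app (op V) m)
  rw [nat, Scheme.Modules.map_smul, Scheme.Modules.map_smul, nat, h, ← hb x]
  exact Scheme.Modules.Hom.app_smul φ (b x) (M.presheaf.map i.op m)

/-- Direct image along a closed immersion is full. -/
theorem full_push : (Scheme.Modules.pushforward f).Full := by
  refine ⟨fun {M N} φ => ?_⟩
  let SM : CohTop.Ab X.carrier := ⟨M.presheaf, M.isSheaf⟩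
  let SN : CohTop.Ab X.carrier := ⟨N.presheaf, N.isSheaf⟩
  haveI : (CohTop.push f.base).Full := ClosedEmb.push_full f.isClosedEmbedding.isInducing
  let φ' : (CohTop.push f.base).obj SM ⟶ (CohTop.push f.base).obj SN := ⟨φ.mapPresheaf⟩
  obtain ⟨α, hα⟩ := (CohTop.push f.base).map_surjective φ'
  have h : ∀ O : Y.Opens, α.hom.app (op (f ⁻¹ᵁ O)) = φ.app O := fun O =>
    congrArg (fun q : (CohTop.push f.base).obj SM ⟶ (CohTop.push f.base).obj SN => q.hom.app (op O)) hα
  let ψ : M ⟶ N := Scheme.Modules.fullyFaithfulToPresheafOfModules.preimage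
    (PresheafOfModules.homMk α.hom fun V a m => app_smul_of_push f α.hom φ h V.unop a m)
  refine ⟨ψ, Scheme.Modules.hom_ext _ _ fun O => ?_⟩
  exact h O

end Groth.Agent.ClosedPush

end
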